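import Groth.Agent.WeilRes.K933.WRSheaf

/-!
# The Weil restriction property is étale local on the base

`nodeW`: a pair `(R, q)` is a Weil restriction of `X'` along `f : S' ⟶ S` as soon as `restr f q` is bijective on all
test objects which live over the members of an étale covering family `V_s ⟶ S`, `s ∈ S`.
-/

set_option autoImplicit false

universe u

open CategoryTheory CategoryTheory.Limits AlgebraicGeometry Opposite

namespace K994.WeilEtLocal

open Groth.Agent.Sga3B.RepDescent

section general

variable {S : Scheme.{u}} {F : (Over S)ᵒᵖ ⥤ Type u}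

/-- Universality of an element of an étale sheaf is étale local on the base. -/
theorem bijective_of_etale_local (hF : IsEtSheaf F) (R : Over S) (ξ : F.obj (op R))
    (h : ∀ s : S, ∃ (V : Scheme.{u}) (v : V ⟶ S), Etale v ∧ s ∈ Set.range v ∧
      ∀ T : Over V, Function.Bijective (fun g : (Over.map v).obj T ⟶ R => F.map g.op ξ)) (T : Over S) :
    Function.Bijective (fun g : T ⟶ R => F.map g.op ξ) := by
  choose V v hv hs hb using h
  -- the covering of a test object
  let cov (T : Over S) (s : S) : Over S := (Over.map (v s)).obj ((Over.pullback (v s)).obj T)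
  let covMap (T : Over S) (s : S) : cov T s ⟶ T := (Over.mapPullbackAdj (v s)).counit.app T
  have hfst (T : Over S) (s : S) : (covMap T s).left = pullback.fst T.hom (v s) := by
    simp [covMap, cov, Over.mapPullbackAdj]
  have het (T : Over S) (s : S) : Etale (covMap T s).left := by
    have := hv s
    rw [hfst]
    infer_instance
  have hcov (T : Over S) (t : T.left) : ∃ (s : S) (t' : (cov T s).left), (covMap T s).left t' = t := by
    obtain ⟨y, hy⟩ := hs (T.hom t)
    obtain ⟨z, hz1, hz2⟩ := Scheme.exists_preimage_of_isPullback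
      (IsPullback.of_hasPullback T.hom (v (T.hom t))) t y hy.symm
    refine ⟨T.hom t, z, ?_⟩
    rw [hfst]
    exact hz1
  have hinj (T : Over S) : Function.Injective (fun g : T ⟶ R => F.map g.op ξ) := by
    intro g₁ g₂ hg
    have h0 : ∀ s, covMap T s ≫ g₁ = covMap T s ≫ g₂ := fun s => by
      apply (hb s _).1
      change F.map (covMap T s ≫ g₁).op ξ = F.map (covMap T s ≫ g₂).op ξ
      rw [op_comp, op_comp, Functor.map_comp_apply, Functor.map_comp_apply]
      exact congrArg _ hg
    obtain ⟨z, hz, hz'⟩ := isEtSheaf_yoneda R (T := T) (cov T) (covMap T) (het T) (hcov T)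
      (fun s => covMap T s ≫ g₁) (by
        intro i j Q a b hab
        change a ≫ covMap T i ≫ g₁ = b ≫ covMap T j ≫ g₁
        rw [← Category.assoc, hab, Category.assoc])
    rw [hz' g₁ fun _ => rfl, hz' g₂ fun s => (h0 s).symm]
  refine ⟨hinj T, fun x => ?_⟩
  choose g hg using fun s => (hb s ((Over.pullback (v s)).obj T)).2 (F.map (covMap T s).op x)
  obtain ⟨y, hy, -⟩ := isEtSheaf_yoneda R (T := T) (cov T) (covMap T) (het T) (hcov T) g (by
    intro i j Q a b hab
    apply hinj
    change F.map (a ≫ g i).op ξ = F.map (b ≫ g j).op ξ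
    rw [op_comp, op_comp, Functor.map_comp_apply, Functor.map_comp_apply]
    have hi : F.map (g i).op ξ = F.map (covMap T i).op x := hg i
    have hj : F.map (g j).op ξ = F.map (covMap T j).op x := hg j
    refine (congrArg (F.map a.op) hi).trans (Eq.trans ?_ (congrArg (F.map b.op) hj).symm)
    rw [← Functor.map_comp_apply, ← Functor.map_comp_apply, ← op_comp, ← op_comp, hab])
  refine ⟨y, ?_⟩
  obtain ⟨z, hz, hz'⟩ := hF (T := T) (cov T) (covMap T) (het T) (hcov T)
    (fun i => F.map (covMap T i).op x) (by
    intro i j Q a b hab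
    rw [← Functor.map_comp_apply, ← Functor.map_comp_apply, ← op_comp, ← op_comp, hab])
  have h1 : x = z := hz' x fun _ => rfl
  rw [h1]
  refine hz' _ fun i => ?_
  have h2 : covMap T i ≫ y = g i := hy i
  change F.map (covMap T i).op (F.map y.op ξ) = _
  rw [← Functor.map_comp_apply, ← op_comp, h2]
  exact hg i

end general

/-- NODE W: the Weil restriction property is étale local on the base. -/
theorem nodeW {S S' : Scheme.{u}} (f : S' ⟶ S) {X' : Over S'} {R : Over S} (q : Red.bc f R ⟶ X')
    (h : ∀ s : S, ∃ (V : Scheme.{u}) (v : V ⟶ S), Etale v ∧ s ∈ Set.range v ∧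
      ∀ T : Over V, Function.Bijective (WeilRes.restr f q ((Over.map v).obj T))) :
    WeilRes.IsWeilRes f X' R q := fun T =>
  bijective_of_etale_local (F := WeilRes.functor f X') (K933.WRSheaf.isEtSheaf_functor f X') R q h T

end K994.WeilEtLocal
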